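import Mathlib.AlgebraicTopology.CechNerve
import Mathlib.AlgebraicTopology.AlternatingFaceMapComplex
import Mathlib.Algebra.Category.Ring.Colimits
import Mathlib.Algebra.Category.Ring.Instances
import Mathlib.Algebra.Category.Grp.Basic
import Mathlib.Algebra.Category.Grp.Abelian
import Mathlib.Algebra.Category.Grp.Preadditive
import Mathlib.Algebra.Category.Grp.Colimits
import Mathlib.Algebra.Homology.ShortComplex.Ab
import Mathlib.RingTheory.Flat.FaithfullyFlat.Basic
import Mathlib.RingTheory.Flat.FaithfullyFlat.Algebra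
import Mathlib.Algebra.Homology.ShortComplex.HomologicalComplex
import Mathlib.RingTheory.TensorProduct.Maps
import Mathlib.Tactic

/-!
# The Amitsur complex of a faithfully flat algebra is exact
-/

set_option autoImplicit false
set_option linter.style.haveILetI false
set_option backward.isDefEq.respectTransparency false
set_option backward.isDefEq.respectTransparency.types false

universe u

open CategoryTheory CategoryTheory.Limits TensorProduct

namespace Groth.Agent.Amitsur

variable (R A : Type u) [CommRing R] [CommRing A] [Algebra R A]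

/-- The structure map. -/
abbrev str : CommRingCat.of R ⟶ CommRingCat.of A := CommRingCat.ofHom (algebraMap R A)

/-- The `(n+1)`-fold coproduct of `A` under `R`. -/
noncomputable abbrev W (n : ℕ) : CommRingCat.{u} :=
  widePushout (CommRingCat.of R) (fun _ : Fin (n + 1) => CommRingCat.of A) fun _ => str R A

noncomputable instance (n : ℕ) : Algebra R (W R A n) :=
  (WidePushout.head (B := CommRingCat.of R) fun _ : Fin (n + 1) => str R A).hom.toAlgebra

/-- The coprojections. -/
noncomputable def inj {n : ℕ} (i : Fin (n + 1)) : A →ₐ[R] W R A n :=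
  { (WidePushout.ι (fun _ : Fin (n + 1) => str R A) i).hom with
    commutes' := fun r => ConcreteCategory.congr_hom (WidePushout.arrow_ι (fun _ : Fin (n + 1) => str R A) i) r }

/-- Maps out of the coproduct. -/
noncomputable def descₐ {n : ℕ} {S : Type u} [CommRing S] [Algebra R S] (g : Fin (n + 1) → (A →ₐ[R] S)) :
    W R A n →ₐ[R] S :=
  { (WidePushout.desc (arrows := fun _ : Fin (n + 1) => str R A) (X := CommRingCat.of S)
      (CommRingCat.ofHom (algebraMap R S)) (fun i => CommRingCat.ofHom (g i).toRingHom)
      (fun i => by ext r; exact (g i).commutes r)).hom with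
    commutes' := fun r => ConcreteCategory.congr_hom (WidePushout.head_desc (arrows := fun _ : Fin (n + 1) => str R A)
      (X := CommRingCat.of S) (CommRingCat.ofHom (algebraMap R S)) (fun i => CommRingCat.ofHom (g i).toRingHom)
      (fun i => by ext r; exact (g i).commutes r)) r }

lemma descₐ_inj {n : ℕ} {S : Type u} [CommRing S] [Algebra R S] (g : Fin (n + 1) → (A →ₐ[R] S)) (i : Fin (n + 1)) (a : A) :
    descₐ R A g (inj R A i a) = g i a :=
  ConcreteCategory.congr_hom (WidePushout.ι_desc (arrows := fun _ : Fin (n + 1) => str R A)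
    (X := CommRingCat.of S) (CommRingCat.ofHom (algebraMap R S)) (fun i => CommRingCat.ofHom (g i).toRingHom)
    (fun i => by ext r; exact (g i).commutes r) i) a

lemma algHom_ext {n : ℕ} {S : Type u} [CommRing S] [Algebra R S] {f g : W R A n →ₐ[R] S}
    (h : ∀ i a, f (inj R A i a) = g (inj R A i a)) : f = g := by
  have := WidePushout.hom_ext (arrows := fun _ : Fin (n + 1) => str R A) (CommRingCat.ofHom f.toRingHom)
    (CommRingCat.ofHom g.toRingHom) (fun i => by ext a; exact h i a)
    (by ext r; exact (f.commutes r).trans (g.commutes r).symm)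
  exact AlgHom.coe_ringHom_injective (congrArg CommRingCat.Hom.hom this)

/-- The `i`-th coface. -/
noncomputable def face {n : ℕ} (i : Fin (n + 2)) : W R A n →ₐ[R] W R A (n + 1) :=
  descₐ R A fun j => inj R A (i.succAbove j)

/-- The decomposition of the coproduct. -/
noncomputable def φ (n : ℕ) : A ⊗[R] W R A n →ₐ[R] W R A (n + 1) :=
  Algebra.TensorProduct.lift (inj R A 0) (face R A 0) fun _ _ => Commute.all _ _

/-- The inverse of `φ`. -/
noncomputable def ψ (n : ℕ) : W R A (n + 1) →ₐ[R] A ⊗[R] W R A n :=
  descₐ R A fun i => Fin.cases (motive := fun _ => A →ₐ[R] A ⊗[R] W R A n) Algebra.TensorProduct.includeLeft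
    (fun j => Algebra.TensorProduct.includeRight.comp (inj R A j)) i

lemma φ_bijective (n : ℕ) : Function.Bijective (φ R A n) := by
  have h1 : (φ R A n).comp (ψ R A n) = AlgHom.id R _ := algHom_ext R A fun i a => by
    induction i using Fin.cases with
    | zero => simp [φ, ψ, descₐ_inj]
    | succ j => simp [φ, ψ, face, descₐ_inj]
  have h2 : (ψ R A n).comp (φ R A n) = AlgHom.id R _ := by
    refine Algebra.TensorProduct.ext (AlgHom.ext fun a => ?_) (algHom_ext R A fun j a => ?_)
    · simp [φ, ψ, descₐ_inj]
    · simp [φ, ψ, face, descₐ_inj]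
  exact ⟨Function.LeftInverse.injective (g := ψ R A n) fun x => AlgHom.congr_fun h2 x,
    Function.RightInverse.surjective (g := ψ R A n) fun x => AlgHom.congr_fun h1 x⟩

/-- The differential. -/
noncomputable def dl (n : ℕ) : W R A n →ₗ[R] W R A (n + 1) :=
  ∑ i : Fin (n + 2), (-1 : ℤ) ^ (i : ℕ) • (face R A i).toLinearMap

lemma face_φ (n : ℕ) (i : Fin (n + 2)) (y : A ⊗[R] W R A n) :
    face R A i.succ (φ R A n y) = φ R A (n + 1) ((face R A i).toLinearMap.lTensor A y) := by
  induction y with
  | zero => simp
  | add a b ha hb => simp only [map_add, ha, hb]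
  | tmul a z =>
    have e : (face R A i.succ).comp (face R A 0) = (face R A 0).comp (face R A i) := algHom_ext R A fun j b => by
      simp [face, descₐ_inj, Fin.succ_succAbove_succ]
    have e' := AlgHom.congr_fun e z
    simp only [AlgHom.comp_apply] at e'
    simp [φ, e']
    simp [face, descₐ_inj]

lemma dl_φ (n : ℕ) (y : A ⊗[R] W R A n) :
    dl R A (n + 1) (φ R A n y) = φ R A (n + 1) (1 ⊗ₜ φ R A n y) - φ R A (n + 1) ((dl R A n).lTensor A y) := by
  rw [dl, LinearMap.sum_apply, Fin.sum_univ_succ]
  simp only [LinearMap.smul_apply, AlgHom.toLinearMap_apply, Fin.val_zero, pow_zero, one_smul, Fin.val_succ]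
  rw [sub_eq_add_neg]
  congr 1
  · simp [φ]
  · have e : (dl R A n).lTensor A y = ∑ i : Fin (n + 2), (-1 : ℤ) ^ (i : ℕ) • (face R A i).toLinearMap.lTensor A y := by
      induction y with
      | zero => simp
      | add a b ha hb => simp only [map_add, ha, hb, smul_add, Finset.sum_add_distrib]
      | tmul a z =>
        rw [LinearMap.lTensor_tmul, dl, LinearMap.sum_apply, TensorProduct.tmul_sum]
        refine Finset.sum_congr rfl fun i _ => ?_
        rw [LinearMap.smul_apply, LinearMap.lTensor_tmul]
        exact map_zsmul (TensorProduct.mk R A (W R A (n + 1)) a) _ _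
    rw [e, map_sum, ← Finset.sum_neg_distrib]
    refine Finset.sum_congr rfl fun i _ => ?_
    rw [map_zsmul, face_φ, pow_succ, mul_neg_one, neg_smul]

theorem exact [Module.FaithfullyFlat R A] (n : ℕ) (x : W R A (n + 1)) (hx : dl R A (n + 1) x = 0) :
    ∃ z, dl R A n z = x := by
  obtain ⟨y, rfl⟩ := (φ_bijective R A n).2 x
  rw [dl_φ, sub_eq_zero] at hx
  have h := (φ_bijective R A (n + 1)).1 hx
  suffices hm : φ R A n y ∈ LinearMap.range (dl R A n) from hm
  rw [← Submodule.Quotient.mk_eq_zero]
  apply Module.FaithfullyFlat.tensorProduct_mk_injective (A := R) (B := A)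
  show (1 : A) ⊗ₜ[R] _ = (1 : A) ⊗ₜ[R] _
  rw [TensorProduct.tmul_zero]
  have h' := congrArg (LinearMap.lTensor A (LinearMap.range (dl R A n)).mkQ) h
  rw [← LinearMap.comp_apply (LinearMap.lTensor A _) (LinearMap.lTensor A (dl R A n)), ← LinearMap.lTensor_comp,
    LinearMap.range_mkQ_comp, LinearMap.lTensor_zero, LinearMap.zero_apply] at h'
  exact h'

/-- The cosimplicial abelian group. -/
noncomputable abbrev cosimp : CosimplicialObject AddCommGrpCat.{u} :=
  (Arrow.mk (str R A)).cechConerve ⋙ forget₂ CommRingCat RingCat ⋙ forget₂ RingCat AddCommGrpCat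

lemma hom_sum_apply {M N : AddCommGrpCat.{u}} {ι : Type*} (s : Finset ι) (f : ι → (M ⟶ N)) (x : M) :
    (∑ i ∈ s, f i).hom x = ∑ i ∈ s, (f i).hom x :=
  map_sum (AddMonoidHom.mk' (fun g : M ⟶ N => g.hom x) fun _ _ => rfl) f s

lemma d_apply (n : ℕ) (x : W R A n) :
    ((AlgebraicTopology.AlternatingCofaceMapComplex.obj (cosimp R A)).d n (n + 1)).hom x = dl R A n x := by
  rw [show (AlgebraicTopology.AlternatingCofaceMapComplex.obj (cosimp R A)).d n (n + 1) =
    AlgebraicTopology.AlternatingCofaceMapComplex.objD (cosimp R A) n from by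
      simp [AlgebraicTopology.AlternatingCofaceMapComplex.obj]]
  simp only [AlgebraicTopology.AlternatingCofaceMapComplex.objD, dl, LinearMap.sum_apply]
  rw [hom_sum_apply]
  refine Finset.sum_congr rfl fun i _ => ?_
  rfl

theorem exactAt [Module.FaithfullyFlat R A] (n : ℕ) (hn : 0 < n) :
    (AlgebraicTopology.AlternatingCofaceMapComplex.obj (cosimp R A)).ExactAt n := by
  obtain ⟨m, rfl⟩ : ∃ m, n = m + 1 := ⟨n - 1, by omega⟩
  rw [HomologicalComplex.exactAt_iff' _ m (m + 1) (m + 1 + 1) (by simp) (by simp), ShortComplex.ab_exact_iff]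
  intro x hx
  obtain ⟨z, hz⟩ := exact R A m x ((d_apply R A (m + 1) x).symm.trans hx)
  exact ⟨z, (d_apply R A m z).trans hz⟩

end Groth.Agent.Amitsur
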